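import Cfsg.Agent.Lib.Helper28.Y555.CF.ChkDefs

set_option autoImplicit false
set_option linter.unusedVariables false
set_option Elab.async false

namespace Cfsg.Agent.Lib.Helper28.Y555.CF

open Cfsg.Agent.Lib.Helper28.Y555Sub.K11 (Gen)
open Cfsg.Agent.Lib.Helper28.TC

noncomputable section

theorem permP_blk0 : allRange (guard nn permP) 0 (0 * 2 ^ 0) = true := by decide +kernel
theorem permP_f0 : ∀ k, 0 ≤ k → k < 1 → allRange (guard nn permP) 0 (k * 2 ^ 0) = true := by
  intro k h1 h2
  interval_cases k
  · exact permP_blk0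

end

end Cfsg.Agent.Lib.Helper28.Y555.CF
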